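import Mathlib.LinearAlgebra.Matrix.GeneralLinearGroup.Card
import Mathlib.LinearAlgebra.Matrix.Charpoly.Coeff
import Mathlib.FieldTheory.Finite.GaloisField
import Mathlib.FieldTheory.Finite.Basic
import Mathlib.GroupTheory.Perm.Cycle.Type
import Mathlib.LinearAlgebra.Matrix.ToLinearEquiv
import Mathlib.RingTheory.IntegralDomain

/-!
# `GL₂(𝔽_p)` is generated by a non-split Cartan subgroup and an element of order `p`
-/

namespace Groth.Agent.GL2p25

open Matrix

variable {p : ℕ} [hp : Fact p.Prime]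

local notation "M₂" => Matrix (Fin 2) (Fin 2) (ZMod p)

theorem exists_cartan :
    ∃ (C : Subgroup (GL (Fin 2) (ZMod p))) (E : Subring M₂),
      IsField E ∧ Nat.card E = p ^ 2 ∧
        (E : Set M₂) = insert 0 ((fun g : GL (Fin 2) (ZMod p) => (g : M₂)) '' (C : Set (GL (Fin 2) (ZMod p)))) := by
  classical
  let F := GaloisField p 2
  haveI : FiniteDimensional (ZMod p) F := inferInstanceAs (FiniteDimensional (ZMod p) (GaloisField p 2))
  let b : Module.Basis (Fin 2) (ZMod p) F := Module.finBasisOfFinrankEq _ _ (GaloisField.finrank p two_ne_zero)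
  let φ : F →+* M₂ := (Algebra.leftMulMatrix b).toRingHom
  have hφ : Function.Injective φ := φ.injective
  refine ⟨(Units.map φ.toMonoidHom).range, φ.range, ?_, ?_, ?_⟩
  · exact (RingEquiv.toMulEquiv (RingEquiv.ofLeftInverse (Function.leftInverse_invFun hφ))).symm.isField
      (Field.toIsField F)
  · rw [← GaloisField.card p 2 two_ne_zero]
    exact (Nat.card_congr (RingEquiv.ofLeftInverse (Function.leftInverse_invFun hφ)).toEquiv).symm
  · ext M
    simp only [Set.mem_insert_iff, Set.mem_image, SetLike.mem_coe, RingHom.mem_range, MonoidHom.mem_range]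
    constructor
    · rintro ⟨x, rfl⟩
      rcases eq_or_ne x 0 with rfl | hx
      · exact Or.inl (map_zero φ)
      · exact Or.inr ⟨_, ⟨Units.mk0 x hx, rfl⟩, rfl⟩
    · rintro (rfl | ⟨_, ⟨u, rfl⟩, rfl⟩)
      · exact ⟨0, map_zero φ⟩
      · exact ⟨(u : F), rfl⟩

theorem prime_dvd_card_GL : p ∣ Nat.card (GL (Fin 2) (ZMod p)) := by
  rw [Matrix.card_GL_field, Fin.prod_univ_two, ZMod.card]
  exact Dvd.dvd.mul_left (Nat.dvd_sub (dvd_pow_self p two_ne_zero) (by simp)) _

/-- Upper transvection. -/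
def up (t : ZMod p) : GL (Fin 2) (ZMod p) :=
  ⟨!![1, t; 0, 1], !![1, -t; 0, 1], by simp [Matrix.one_fin_two], by simp [Matrix.one_fin_two]⟩

/-- Lower transvection. -/
def low (t : ZMod p) : GL (Fin 2) (ZMod p) :=
  ⟨!![1, 0; t, 1], !![1, 0; -t, 1], by simp [Matrix.one_fin_two], by simp [Matrix.one_fin_two]⟩

theorem up_nsmul (t : ZMod p) (j : ℕ) : up t ^ j = up ((j : ZMod p) * t) := by
  induction j with
  | zero => ext a b; fin_cases a <;> fin_cases b <;> simp [up]
  | succ j ih =>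
    rw [pow_succ, ih]
    ext a b
    fin_cases a <;> fin_cases b <;> simp [up, Matrix.mul_apply, Fin.sum_univ_two] <;> ring

theorem low_nsmul (t : ZMod p) (j : ℕ) : low t ^ j = low ((j : ZMod p) * t) := by
  induction j with
  | zero => ext a b; fin_cases a <;> fin_cases b <;> simp [low]
  | succ j ih =>
    rw [pow_succ, ih]
    ext a b
    fin_cases a <;> fin_cases b <;> simp [low, Matrix.mul_apply, Fin.sum_univ_two] <;> ring

theorem mem_of_det_one {H : Subgroup (GL (Fin 2) (ZMod p))} (hu : ∀ t, up t ∈ H) (hl : ∀ t, low t ∈ H)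
    (h : GL (Fin 2) (ZMod p)) (hdet : (h : M₂).det = 1) : h ∈ H := by
  have key : ∀ g : GL (Fin 2) (ZMod p), (g : M₂).det = 1 → (g : M₂) 1 0 ≠ 0 → g ∈ H := by
    intro g hg hc
    have : g = up (((g : M₂) 0 0 - 1) / (g : M₂) 1 0) * low ((g : M₂) 1 0) *
        up (((g : M₂) 1 1 - 1) / (g : M₂) 1 0) := by
      rw [Matrix.det_fin_two] at hg
      ext a b
      fin_cases a <;> fin_cases b <;> simp [up, low, Matrix.mul_apply, Fin.sum_univ_two] <;> field_simp <;>
        first | ring1 | linear_combination hg | linear_combination -hg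
    rw [this]
    exact mul_mem (mul_mem (hu _) (hl _)) (hu _)
  by_cases hc : (h : M₂) 1 0 = 0
  · have h' : (low 1 : GL (Fin 2) (ZMod p)) * h ∈ H := by
      refine key _ ?_ ?_
      · rw [Units.val_mul, Matrix.det_mul, hdet, mul_one]
        simp [low, Matrix.det_fin_two_of]
      · rw [Matrix.det_fin_two, hc, mul_zero, sub_zero] at hdet
        have h0 : (h : M₂) 0 0 ≠ 0 := left_ne_zero_of_mul (hdet ▸ one_ne_zero)
        simpa [low, Matrix.mul_apply, Fin.sum_univ_two, hc] using h0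
    simpa using mul_mem (inv_mem (hl 1)) h'
  · exact key h hdet hc

theorem eq_top_of_cartan {H C : Subgroup (GL (Fin 2) (ZMod p))} {E : Subring M₂}
    (hCH : C ≤ H) (hE : IsField E) (hcard : Nat.card E = p ^ 2)
    (hEC : (E : Set M₂) = insert 0 ((fun g : GL (Fin 2) (ZMod p) => (g : M₂)) '' (C : Set (GL (Fin 2) (ZMod p)))))
    (hdvd : p ∣ Nat.card H) : H = ⊤ := by
  classical
  have hCE : ∀ e ∈ E, e ≠ 0 → ∃ c ∈ C, ((c : GL (Fin 2) (ZMod p)) : M₂) = e := by
    intro e he h0
    have : e ∈ insert (0 : M₂) ((fun g : GL (Fin 2) (ZMod p) => (g : M₂)) '' (C : Set (GL (Fin 2) (ZMod p)))) :=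
      hEC ▸ he
    exact this.resolve_left h0
  -- `C` is transitive on non-zero vectors
  have htrans : ∀ v : Fin 2 → ZMod p, v ≠ 0 → ∀ w : Fin 2 → ZMod p, w ≠ 0 →
      ∃ c ∈ C, ((c : GL (Fin 2) (ZMod p)) : M₂) *ᵥ v = w := by
    intro v hv w hw
    have hinj : Function.Injective fun e : E => (e : M₂) *ᵥ v := by
      intro a b hab
      by_contra hne
      have h0 : ((a - b : E) : M₂) ≠ 0 := fun h => hne (sub_eq_zero.1 (Subtype.ext h))
      obtain ⟨c, -, hc⟩ := hCE _ (a - b).2 h0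
      have : (c : M₂) *ᵥ v = 0 := by
        rw [hc]
        show ((a : M₂) - (b : M₂)) *ᵥ v = 0
        rw [Matrix.sub_mulVec]
        exact sub_eq_zero.2 hab
      exact hv (by simpa [Matrix.mulVec_mulVec] using congrArg (fun z => ((c⁻¹ : GL (Fin 2) (ZMod p)) : M₂) *ᵥ z) this)
    obtain ⟨e, he⟩ := ((Nat.bijective_iff_injective_and_card _).2 ⟨hinj, by
      rw [hcard, Nat.card_eq_fintype_card]; simp⟩).2 w
    have he0 : (e : M₂) ≠ 0 := fun h => hw (by rw [← he]; simp [h])
    obtain ⟨c, hc, hce⟩ := hCE _ e.2 he0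
    exact ⟨c, hc, hce ▸ he⟩
  -- the element of order `p`
  obtain ⟨g, hg⟩ := exists_prime_orderOf_dvd_card' (G := H) p hdvd
  let N : M₂ := ((g : GL (Fin 2) (ZMod p)) : M₂) - 1
  have hNp : N ^ p = 0 := by
    haveI : CharP M₂ p := charP_of_injective_ringHom (f := Matrix.scalar (Fin 2)) (fun _ _ h => Matrix.scalar_inj.1 h) p
    rw [sub_pow_char_of_commute _ (Commute.one_right _), one_pow, sub_eq_zero]
    have := congrArg (fun z : H => ((z : GL (Fin 2) (ZMod p)) : M₂)) (hg ▸ pow_orderOf_eq_one g)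
    simpa using this
  have hNne : N ≠ 0 := fun h => by
    have : g = 1 := Subtype.ext (Units.ext (sub_eq_zero.1 h))
    rw [this, orderOf_one] at hg
    exact hp.out.one_lt.ne hg
  have hN2 : N ^ 2 = 0 := by
    obtain ⟨hdet, htr⟩ : N.det = 0 ∧ N.trace = 0 := by
      have h1 := Matrix.isNilpotent_charpoly_sub_pow_of_isNilpotent ⟨p, hNp⟩
      rw [Fintype.card_fin, isNilpotent_iff_eq_zero, sub_eq_zero, Matrix.charpoly_fin_two] at h1
      constructor
      · have := congrArg (fun P : Polynomial (ZMod p) => P.coeff 0) h1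
        simpa using this
      · have := congrArg (fun P : Polynomial (ZMod p) => P.coeff 1) h1
        simpa [Polynomial.coeff_X_pow] using this
    have h2 : N.trace = N 0 0 + N 1 1 := Matrix.trace_fin_two N
    rw [Matrix.det_fin_two] at hdet
    rw [htr] at h2
    ext a b
    fin_cases a <;> fin_cases b <;> simp [pow_two, Matrix.mul_apply, Fin.sum_univ_two]
    · linear_combination -(N 0 0) * h2 - hdet
    · linear_combination -(N 0 1) * h2
    · linear_combination -(N 1 0) * h2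
    · linear_combination -(N 1 1) * h2 - hdet
  obtain ⟨w, hw⟩ : ∃ w, N *ᵥ w ≠ 0 := by
    by_contra! h
    exact hNne (Matrix.ext_of_mulVec_single fun i => by rw [h, Matrix.zero_mulVec])
  have hv2 : N *ᵥ (N *ᵥ w) = 0 := by rw [Matrix.mulVec_mulVec, ← pow_two, hN2, Matrix.zero_mulVec]
  -- conjugates
  have conj : ∀ u : Fin 2 → ZMod p, u ≠ 0 → ∃ h ∈ H, ∃ M : M₂,
      ((h : GL (Fin 2) (ZMod p)) : M₂) = 1 + M ∧ M ≠ 0 ∧ M *ᵥ u = 0 ∧ M * M = 0 := by
    intro u hu
    obtain ⟨c, hc, hcv⟩ := htrans _ hw u hu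
    refine ⟨c * g * c⁻¹, mul_mem (mul_mem (hCH hc) g.2) (inv_mem (hCH hc)),
      (c : M₂) * N * ((c⁻¹ : GL (Fin 2) (ZMod p)) : M₂), ?_, ?_, ?_, ?_⟩
    · simp [N, mul_sub, sub_mul]
    · intro h
      exact hNne (by
        have h2 := congrArg (fun z => ((c⁻¹ : GL (Fin 2) (ZMod p)) : M₂) * z * (c : M₂)) h
        simpa [mul_assoc] using h2)
    · rw [← hcv, Matrix.mulVec_mulVec, mul_assoc, Units.inv_mul, mul_one, ← Matrix.mulVec_mulVec, hv2,
        Matrix.mulVec_zero]
    · rw [show (c : M₂) * N * ((c⁻¹ : GL (Fin 2) (ZMod p)) : M₂) * ((c : M₂) * N * ((c⁻¹ : GL (Fin 2) (ZMod p)) : M₂))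
        = (c : M₂) * (N * ((((c⁻¹ : GL (Fin 2) (ZMod p)) : M₂)) * (c : M₂)) * N) * ((c⁻¹ : GL (Fin 2) (ZMod p)) : M₂) by
          simp only [mul_assoc],
        Units.inv_mul, mul_one, ← pow_two, hN2, mul_zero, zero_mul]
  have gen : ∀ t : ZMod p, t ≠ 0 → ∀ s : ZMod p, ∃ j : ℕ, (j : ZMod p) * t = s := fun t ht s =>
    ⟨(s / t).val, by rw [ZMod.natCast_zmod_val]; field_simp⟩
  have hu : ∀ t, up t ∈ H := by
    obtain ⟨h, hh, M, hM, hM0, hMu, hMM⟩ := conj ![1, 0] (fun h => one_ne_zero (congrFun h 0))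
    have a00 : M 0 0 = 0 := by simpa [Matrix.mulVec, dotProduct] using congrFun hMu 0
    have a10 : M 1 0 = 0 := by simpa [Matrix.mulVec, dotProduct] using congrFun hMu 1
    have a11 : M 1 1 = 0 := by
      simpa [Matrix.mul_apply, Fin.sum_univ_two, a10] using congrFun (congrFun hMM 1) 1
    have a01 : M 0 1 ≠ 0 := fun h => hM0 (by ext a b; fin_cases a <;> fin_cases b <;> simp [a00, a10, a11, h])
    have : h = up (M 0 1) := by
      ext a b; fin_cases a <;> fin_cases b <;> simp [hM, up, a00, a10, a11]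
    intro t
    obtain ⟨j, rfl⟩ := gen _ a01 t
    rw [← up_nsmul, ← this]
    exact pow_mem hh j
  have hl : ∀ t, low t ∈ H := by
    obtain ⟨h, hh, M, hM, hM0, hMu, hMM⟩ := conj ![0, 1] (fun h => one_ne_zero (congrFun h 1))
    have a01 : M 0 1 = 0 := by simpa [Matrix.mulVec, dotProduct] using congrFun hMu 0
    have a11 : M 1 1 = 0 := by simpa [Matrix.mulVec, dotProduct] using congrFun hMu 1
    have a00 : M 0 0 = 0 := by
      simpa [Matrix.mul_apply, Fin.sum_univ_two, a01] using congrFun (congrFun hMM 0) 0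
    have a10 : M 1 0 ≠ 0 := fun h => hM0 (by ext a b; fin_cases a <;> fin_cases b <;> simp [a00, a01, a11, h])
    have : h = low (M 1 0) := by
      ext a b; fin_cases a <;> fin_cases b <;> simp [hM, low, a00, a01, a11]
    intro t
    obtain ⟨j, rfl⟩ := gen _ a10 t
    rw [← low_nsmul, ← this]
    exact pow_mem hh j
  -- determinants
  have hdet : ∀ a : ZMod p, a ≠ 0 → ∃ c ∈ C, ((c : GL (Fin 2) (ZMod p)) : M₂).det = a := by
    intro a ha
    rcases eq_or_ne p 2 with h2 | h2
    · subst h2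
      refine ⟨1, one_mem C, ?_⟩
      rw [Units.val_one, Matrix.det_one]
      fin_cases a
      · exact absurd rfl ha
      · rfl
    have two0 : (2 : ZMod p) ≠ 0 := fun h => h2 (by
      have := (CharP.cast_eq_zero_iff (ZMod p) p 2).1 (by exact_mod_cast h) ; exact (Nat.prime_dvd_prime_iff_eq hp.out Nat.prime_two).1 this)
    have hscal : ∀ z : ZMod p, Matrix.scalar (Fin 2) z ∈ E := fun z => by
      rw [← ZMod.natCast_zmod_val z, map_natCast]
      exact natCast_mem E _
    obtain ⟨γ, hγ, hγs⟩ : ∃ γ ∈ E, ∀ z : ZMod p, γ ≠ Matrix.scalar (Fin 2) z := by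
      by_contra! h
      have hle : Nat.card E ≤ Nat.card (ZMod p) :=
        Nat.card_le_card_of_surjective (fun z => (⟨_, hscal z⟩ : E))
          fun e => ⟨(h _ e.2).choose, Subtype.ext (h _ e.2).choose_spec.symm⟩
      rw [hcard, Nat.card_zmod] at hle
      nlinarith [hp.out.two_le]
    let q : ZMod p → ZMod p → M₂ := fun x y => Matrix.scalar (Fin 2) x + Matrix.scalar (Fin 2) y * γ
    have hq : ∀ x y, q x y ∈ E := fun x y => add_mem (hscal x) (mul_mem (hscal y) hγ)
    have hqd : ∀ x y, (q x y).det = (x + γ.trace / 2 * y) ^ 2 + (γ.det - γ.trace ^ 2 / 4) * y ^ 2 := by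
      intro x y
      have h4 : (4 : ZMod p) ≠ 0 := by
        rw [show (4 : ZMod p) = 2 * 2 by norm_num]; exact mul_ne_zero two0 two0
      simp [q, Matrix.det_fin_two, Matrix.trace_fin_two]
      field_simp
      ring
    set D := γ.det - γ.trace ^ 2 / 4 with hD
    have hD0 : D ≠ 0 := by
      intro h0
      have hne : q (-(γ.trace / 2)) 1 ≠ 0 := fun h => hγs (γ.trace / 2) (by
        have h' : Matrix.scalar (Fin 2) (-(γ.trace / 2)) + γ = 0 := by simpa [q] using h
        rw [map_neg] at h'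
        exact (neg_add_eq_zero.1 h').symm)
      obtain ⟨c, -, hc⟩ := hCE _ (hq _ _) hne
      have := Matrix.isUnits_det_units c
      rw [hc, hqd, h0] at this
      simp at this
    obtain ⟨z, y, hzy⟩ := FiniteField.exists_root_sum_quadratic (f := Polynomial.X ^ 2)
      (g := Polynomial.C D * Polynomial.X ^ 2 - Polynomial.C a) (R := ZMod p)
      (Polynomial.degree_X_pow 2)
      (by rw [sub_eq_add_neg, ← Polynomial.C_neg, Polynomial.degree_add_C (by rw [Polynomial.degree_C_mul_X_pow 2 hD0]; exact two_pos), Polynomial.degree_C_mul_X_pow 2 hD0]; rfl)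
      (by rw [ZMod.card]; exact (hp.out.odd_of_ne_two h2) |> Nat.odd_iff.1)
    simp only [Polynomial.eval_pow, Polynomial.eval_X, Polynomial.eval_sub, Polynomial.eval_mul, Polynomial.eval_C] at hzy
    have hd : (q (z - γ.trace / 2 * y) y).det = a := by
      rw [hqd]; linear_combination hzy
    have hne : q (z - γ.trace / 2 * y) y ≠ 0 := fun h => ha (by rw [← hd, h]; simp)
    obtain ⟨c, hc, hce⟩ := hCE _ (hq _ _) hne
    exact ⟨c, hc, hce ▸ hd⟩
  refine eq_top_iff.2 fun x _ => ?_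
  obtain ⟨c, hc, hcd⟩ := hdet _ (Matrix.isUnits_det_units x).ne_zero
  have := mem_of_det_one hu hl (c⁻¹ * x) (by
    rw [Units.val_mul, Matrix.det_mul, Matrix.coe_units_inv, Matrix.det_nonsing_inv, hcd, Ring.inverse_eq_inv',
      inv_mul_cancel₀ (Matrix.isUnits_det_units x).ne_zero])
  simpa using mul_mem (hCH hc) this

end Groth.Agent.GL2p25
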